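import Groth.Agent.Lib.SourceDescent.Ring
import Mathlib.AlgebraicGeometry.Morphisms.Etale
import Mathlib.AlgebraicGeometry.Morphisms.QuasiFinite
import Mathlib.AlgebraicGeometry.Morphisms.Smooth
import Mathlib.AlgebraicGeometry.Morphisms.FormallyUnramified
import Mathlib.AlgebraicGeometry.Morphisms.LocalFlatDescent
import Mathlib.RingTheory.Unramified.Finite

/-!
Properties of morphisms of schemes that are etale local on the source-and-target:
descent along etale surjective morphisms on the source and the derived cancellation rules.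
-/

universe u

open CategoryTheory CategoryTheory.Limits AlgebraicGeometry MorphismProperty

namespace Groth.Agent.Lib.SourceDescent.Scheme

open Groth.Agent.Lib.SourceDescent.Ring (EtaleSourceDescent)

/-- `P` is stable under composition and base change, contains the etale morphisms and can be
checked after precomposition with an etale surjective morphism. -/
structure EtaleLocalST (P : MorphismProperty Scheme.{u}) : Prop where
  comp : ∀ {X Y Z : Scheme.{u}} (f : X ⟶ Y) (g : Y ⟶ Z), P f → P g → P (f ≫ g)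
  baseChange : P.IsStableUnderBaseChange
  etale : ∀ {X Y : Scheme.{u}} (e : X ⟶ Y), Etale e → P e
  descends : ∀ {X X' Y : Scheme.{u}} (e : X' ⟶ X) (f : X ⟶ Y), Etale e → Surjective e →
    P (e ≫ f) → P f

theorem locallyQuasiFinite_of_etale {X Y : Scheme.{u}} (e : X ⟶ Y) [Etale e] :
    LocallyQuasiFinite e := by
  rw [HasRingHomProperty.iff_appLE (P := @LocallyQuasiFinite)]
  intro U V i
  have h := (HasRingHomProperty.iff_appLE (P := @Etale)).mp (inferInstanceAs (Etale e)) U V i
  algebraize [(e.appLE U V i).hom]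
  refine ⟨fun P _ ↦ ?_⟩
  have : Algebra.Etale P.ResidueField (P.Fiber Γ(X, V)) := inferInstance
  exact Algebra.FormallyUnramified.finite_of_free P.ResidueField (P.Fiber Γ(X, V))

theorem of_comp_etale_surjective {P : MorphismProperty Scheme.{u}}
    {Q : ∀ {R S : Type u} [CommRing R] [CommRing S], (R →+* S) → Prop}
    [HasRingHomProperty P Q] (hQ : EtaleSourceDescent.{u} Q)
    (hcomp : ∀ {X Y Z : Scheme.{u}} (f : X ⟶ Y) (g : Y ⟶ Z), Etale f → P g → P (f ≫ g))
    {X X' Y : Scheme.{u}} (e : X' ⟶ X) (f : X ⟶ Y) [Etale e] [Surjective e] (h : P (e ≫ f)) :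
    P f := by
  rw [HasRingHomProperty.iff_appLE (P := P)]
  intro U V i
  -- an affine scheme, etale surjective over `V`
  obtain ⟨T, t, _, _, _, hT⟩ : ∃ (T : Scheme.{u}) (t : T ⟶ (V : X.Opens)) (_ : IsAffine T)
      (_ : Etale t) (_ : Surjective t), P (t ≫ (V : X.Opens).ι ≫ f) := by
    let e' := e ∣_ (V : X.Opens)
    have : Surjective e' := IsZariskiLocalAtTarget.restrict ‹Surjective e› _
    have hopen : IsOpenMap e' := e'.isOpenMap
    -- finitely many affine opens of the preimage cover `V`
    let W := (e ⁻¹ᵁ (V : X.Opens) : Scheme.{u})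
    have hV : IsCompact (Set.univ : Set ↥((V : X.Opens) : Scheme.{u})) := by
      have : IsAffine (V : X.Opens) := V.2
      exact isCompact_univ
    obtain ⟨s, hs⟩ := hV.elim_finite_subcover (fun w : W.affineOpens ↦ e' '' (w : W.Opens))
      (fun w ↦ hopen _ w.1.2) (by
        intro v _
        obtain ⟨x, rfl⟩ := e'.surjective v
        obtain ⟨_, ⟨w, hw, rfl⟩, hx, -⟩ :=
          W.isBasis_affineOpens.exists_subset_of_mem_open (Set.mem_univ x) isOpen_univ
        exact Set.mem_iUnion.mpr ⟨⟨w, hw⟩, x, hx, rfl⟩)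
    let T₀ : Scheme.{u} := ∐ fun w : s ↦ ((w.1 : W.Opens) : Scheme.{u})
    let t₀ : T₀ ⟶ W := Sigma.desc fun w ↦ (w.1 : W.Opens).ι
    have hw : ∀ w : s, IsAffine ((w.1 : W.Opens) : Scheme.{u}) := fun w ↦ w.1.2
    have hr : HasRingHomProperty (@Etale : MorphismProperty Scheme.{u}) RingHom.Etale :=
      inferInstance
    have : IsZariskiLocalAtSource (@Etale : MorphismProperty Scheme.{u}) :=
      @HasRingHomProperty.instIsZariskiLocalAtSource _ _ hr
    have : Etale t₀ := IsZariskiLocalAtSource.sigmaDesc (P := @Etale) fun w ↦ inferInstance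
    refine ⟨T₀, t₀ ≫ e', inferInstance, inferInstance, ⟨fun v ↦ ?_⟩, ?_⟩
    · obtain ⟨w, hws, x, hx, rfl⟩ := Set.mem_iUnion₂.mp (hs (Set.mem_univ v))
      refine ⟨Sigma.ι (fun w : s ↦ ((w.1 : W.Opens) : Scheme.{u})) ⟨w, hws⟩ ⟨x, hx⟩, ?_⟩
      have key : Sigma.ι (fun w : s ↦ ((w.1 : W.Opens) : Scheme.{u})) ⟨w, hws⟩ ≫ t₀ ≫ e' =
          (w : W.Opens).ι ≫ e' := by simp [t₀]
      exact congr($key ⟨x, hx⟩)
    · have := hcomp (t₀ ≫ (e ⁻¹ᵁ (V : X.Opens)).ι) (e ≫ f) inferInstance h
      simpa [e', morphismRestrict_ι_assoc] using this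
  have : IsAffine (V : X.Opens) := V.2
  have : IsAffine (U : Y.Opens) := U.2
  have hT' : P (t ≫ f.resLE U V i) := by
    have sq : IsPullback (𝟙 T) (t ≫ f.resLE U V i) ((t ≫ f.resLE U V i) ≫ (U : Y.Opens).ι)
        (U : Y.Opens).ι :=
      ⟨⟨by simp⟩, ⟨PullbackCone.IsLimit.mk _ (fun s ↦ s.fst) (fun s ↦ by simp)
        (fun s ↦ by
          refine (cancel_mono (U : Y.Opens).ι).mp ?_
          simpa only [Category.assoc] using s.condition)
        (fun s m h₁ _ ↦ by simpa using h₁)⟩⟩
    refine IsZariskiLocalAtTarget.of_isPullback sq ?_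
    rwa [Category.assoc, Scheme.Hom.resLE_comp_ι]
  have hq : P (f.resLE U V i) := by
    rw [HasRingHomProperty.iff_of_isAffine (P := P)] at hT' ⊢
    rw [Scheme.Hom.comp_appTop, CommRingCat.hom_comp] at hT'
    refine hQ _ t.appTop.hom ?_ ?_ hT'
    · exact (Flat.flat_and_surjective_iff_faithfullyFlat_of_isAffine (f := t)).mp ⟨inferInstance, inferInstance⟩
    · exact HasRingHomProperty.appTop @Etale t inferInstance
  have hiso := (HasRingHomProperty.isLocal_ringHomProperty P).respectsIso
  rw [HasRingHomProperty.iff_of_isAffine (P := P), Scheme.Hom.appTop, Scheme.Hom.resLE_app_top,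
    CommRingCat.hom_comp, hiso.cancel_left_isIso, CommRingCat.hom_comp,
    hiso.cancel_right_isIso] at hq
  exact hq

theorem of_postcomp_etale {P : MorphismProperty Scheme.{u}} (hP : EtaleLocalST P)
    {X Y Z : Scheme.{u}} (f : X ⟶ Y) (e : Y ⟶ Z) [Etale e] (h : P (f ≫ e)) : P f := by
  have := hP.baseChange
  have : P.IsMultiplicative :=
    { comp_mem := fun f g hf hg ↦ hP.comp f g hf hg
      id_mem := fun X ↦ hP.etale _ inferInstance }
  have hd : (@Etale : MorphismProperty Scheme.{u}) ≤ P.diagonal := fun X Y e he ↦ by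
    have : Etale e := he
    exact hP.etale (pullback.diagonal e) inferInstance
  exact ((hasOfPostcompProperty_iff_le_diagonal (P := P)).mpr hd).of_postcomp f e ‹Etale e› h

/-- descent along an etale surjective base change -/
theorem of_isPullback_etale {P : MorphismProperty Scheme.{u}} (hP : EtaleLocalST P)
    {X' Y' X Y : Scheme.{u}} {g' : X' ⟶ X} {f' : X' ⟶ Y'} {f : X ⟶ Y} {g : Y' ⟶ Y}
    (sq : IsPullback g' f' f g) [Etale g] [Surjective g] (h : P f') : P f := by
  have : Etale g' := MorphismProperty.of_isPullback (P := @Etale) sq.flip inferInstance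
  have : Surjective g' := MorphismProperty.of_isPullback (P := @Surjective) sq.flip inferInstance
  refine hP.descends g' f inferInstance inferInstance ?_
  rw [sq.w]
  exact hP.comp _ _ h (hP.etale g inferInstance)

theorem mk' {P : MorphismProperty Scheme.{u}}
    {Q : ∀ {R S : Type u} [CommRing R] [CommRing S], (R →+* S) → Prop}
    [HasRingHomProperty P Q] [P.IsStableUnderComposition] [P.IsStableUnderBaseChange]
    (hQ : EtaleSourceDescent.{u} Q) (he : ∀ {X Y : Scheme.{u}} (e : X ⟶ Y), Etale e → P e) :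
    EtaleLocalST P where
  comp f g hf hg := P.comp_mem f g hf hg
  baseChange := inferInstance
  etale := he
  descends e f _ _ h := of_comp_etale_surjective hQ
    (fun f g hf hg ↦ P.comp_mem f g (he f hf) hg) e f h

theorem inf {P P' : MorphismProperty Scheme.{u}} (h : EtaleLocalST P) (h' : EtaleLocalST P') :
    EtaleLocalST (P ⊓ P') where
  comp f g hf hg := ⟨h.comp f g hf.1 hg.1, h'.comp f g hf.2 hg.2⟩
  baseChange := by
    have := h.baseChange
    have := h'.baseChange
    infer_instance
  etale e he := ⟨h.etale e he, h'.etale e he⟩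
  descends e f he hs hf := ⟨h.descends e f he hs hf.1, h'.descends e f he hs hf.2⟩

theorem locallyOfFiniteType : EtaleLocalST (@LocallyOfFiniteType : MorphismProperty Scheme.{u}) :=
  mk' Ring.finiteType_esd fun _ _ ↦ inferInstance

theorem locallyOfFinitePresentation :
    EtaleLocalST (@LocallyOfFinitePresentation : MorphismProperty Scheme.{u}) :=
  mk' Ring.finitePresentation_esd fun _ _ ↦ inferInstance

theorem flat : EtaleLocalST (@Flat : MorphismProperty Scheme.{u}) :=
  mk' Ring.flat_esd fun _ _ ↦ inferInstance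

theorem smooth : EtaleLocalST (@Smooth : MorphismProperty Scheme.{u}) :=
  mk' Ring.smooth_esd fun _ _ ↦ inferInstance

theorem etale : EtaleLocalST (@Etale : MorphismProperty Scheme.{u}) :=
  have : IsStableUnderComposition (@Etale : MorphismProperty Scheme.{u}) :=
    ⟨fun f g (_ : Etale f) (_ : Etale g) ↦ inferInstance⟩
  mk' Ring.etale_esd fun _ he ↦ he

theorem formallyUnramified : EtaleLocalST (@FormallyUnramified : MorphismProperty Scheme.{u}) :=
  mk' Ring.formallyUnramified_esd fun _ _ ↦ inferInstance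

theorem locallyQuasiFinite : EtaleLocalST (@LocallyQuasiFinite : MorphismProperty Scheme.{u}) :=
  mk' Ring.quasiFinite_esd fun e _ ↦ locallyQuasiFinite_of_etale e

end Groth.Agent.Lib.SourceDescent.Scheme
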