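import Mathlib.RingTheory.Etale.Kaehler
import Mathlib.RingTheory.Etale.Descent
import Mathlib.RingTheory.Smooth.NoetherianDescent
import Mathlib.RingTheory.Smooth.StandardSmoothOfFree
import Mathlib.RingTheory.Smooth.Flat
import Mathlib.RingTheory.QuasiFinite.Basic
import Mathlib.RingTheory.Spectrum.Prime.Chevalley
import Mathlib.RingTheory.Flat.FaithfullyFlat.Algebra
import Mathlib.RingTheory.RingHom.Etale
import Mathlib.RingTheory.RingHom.Smooth
import Mathlib.RingTheory.RingHom.FinitePresentation
import Mathlib.RingTheory.RingHom.FiniteType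
import Mathlib.RingTheory.RingHom.FaithfullyFlat
import Mathlib.RingTheory.RingHom.QuasiFinite

/-!
Descent of properties of `A → B` along an etale faithfully flat `B → C`:
if `A → C` is flat / formally unramified / quasi-finite / of finite type / of finite presentation /
smooth / etale, then so is `A → B`.
-/

universe u

open TensorProduct

namespace Groth.Agent.Lib.SourceDescent.Ring

variable (A B C : Type u) [CommRing A] [CommRing B] [CommRing C]
  [Algebra A B] [Algebra B C] [Algebra A C] [IsScalarTower A B C]

theorem flat_of_comp [Module.FaithfullyFlat B C] [Module.Flat A C] : Module.Flat A B := by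
  refine Module.Flat.iff_lTensor_preserves_injective_linearMap.mpr fun N N' _ _ _ _ f hf ↦ ?_
  have hC : Function.Injective (f.lTensor C) := Module.Flat.lTensor_preserves_injective_linearMap f hf
  let fB : B ⊗[A] N →ₗ[B] B ⊗[A] N' := AlgebraTensorModule.lTensor B B f
  have key : ∀ x : C ⊗[B] (B ⊗[A] N),
      AlgebraTensorModule.cancelBaseChange A B B C N' (fB.lTensor C x) =
        f.lTensor C (AlgebraTensorModule.cancelBaseChange A B B C N x) := by
    intro x
    induction x with
    | zero => simp
    | add x y hx hy => simp [map_add, hx, hy]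
    | tmul c y =>
      induction y with
      | zero => simp
      | add x y hx hy =>
        simp only [LinearMap.lTensor_tmul] at hx hy ⊢
        simp only [tmul_add, map_add, hx, hy]
      | tmul b n => simp [fB]
  have : Function.Injective (fB.lTensor C) := fun x y h ↦
    (AlgebraTensorModule.cancelBaseChange A B B C N).injective (hC (by rw [← key, ← key, h]))
  intro x y h
  exact (Module.FaithfullyFlat.lTensor_injective_iff_injective B C fB).mp this
    (show fB x = fB y from h)

theorem formallyUnramified_of_comp [Module.FaithfullyFlat B C] [Algebra.FormallyEtale B C]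
    [Algebra.FormallyUnramified A C] : Algebra.FormallyUnramified A B := by
  constructor
  have : Subsingleton (C ⊗[B] Ω[B⁄A]) :=
    (KaehlerDifferential.tensorKaehlerEquivOfFormallyEtale A B C).subsingleton
  exact Module.FaithfullyFlat.lTensor_reflects_triviality B C _

theorem quasiFinite_of_comp [Module.FaithfullyFlat B C] [Algebra.QuasiFinite A C] :
    Algebra.QuasiFinite A B := by
  refine ⟨fun P _ ↦ ?_⟩
  have : Module.Finite P.ResidueField (P.ResidueField ⊗[A] C) := Algebra.QuasiFinite.finite_fiber P
  let ψ : B →ₗ[A] C := (IsScalarTower.toAlgHom A B C).toLinearMap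
  have hψ : Function.Injective (ψ.rTensor P.ResidueField) := by
    have key : ∀ x : B ⊗[A] P.ResidueField, AlgebraTensorModule.cancelBaseChange A B B C P.ResidueField
        ((1 : C) ⊗ₜ[B] x) = ψ.rTensor P.ResidueField x := by
      intro x
      induction x with
      | zero => simp
      | add x y hx hy => simp [tmul_add, map_add, hx, hy]
      | tmul b k =>
        simp [ψ, Algebra.algebraMap_eq_smul_one]
    intro x y h
    exact Module.FaithfullyFlat.tensorProduct_mk_injective (A := B) (B := C) _
      ((AlgebraTensorModule.cancelBaseChange A B B C P.ResidueField).injective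
        ((key x).trans (h.trans (key y).symm)))
  have hψ' : Function.Injective (ψ.lTensor P.ResidueField) := by
    rw [← LinearMap.comm_comp_rTensor_comp_comm_eq]
    simp only [LinearMap.coe_comp, LinearEquiv.coe_coe]
    exact (LinearEquiv.injective _).comp (hψ.comp (LinearEquiv.injective _))
  exact Module.Finite.of_injective
    (AlgebraTensorModule.lTensor P.ResidueField P.ResidueField ψ) hψ'

variable {A B C} in
/-- An etale algebra over a quotient lifts to an etale algebra over the ring. -/
theorem exists_etale_lift {P : Type u} [CommRing P] [Algebra P B] [Algebra P C] [IsScalarTower P B C]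
    (hP : Function.Surjective (algebraMap P B)) [Algebra.Etale B C] :
    ∃ (Q : Type u) (_ : CommRing Q) (_ : Algebra P Q) (π : Q →ₐ[P] C),
      Algebra.Etale P Q ∧ Function.Surjective π ∧
        RingHom.ker π = (RingHom.ker (algebraMap P B)).map (algebraMap P Q) := by
  classical
  have : Algebra.IsStandardSmoothOfRelativeDimension 0 B C :=
    Algebra.Etale.iff_isStandardSmoothOfRelativeDimension_zero.mp ‹_›
  obtain ⟨ι, σ, _, _, S, hdim⟩ := Algebra.IsStandardSmoothOfRelativeDimension.out (n := 0) (R := B) (S := C)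
  cases nonempty_fintype σ
  have hmap : Function.Surjective (MvPolynomial.map (σ := ι) (algebraMap P B)) :=
    MvPolynomial.map_surjective _ hP
  choose v hv using fun j : σ ↦ hmap (S.relation j)
  let pre := Algebra.PreSubmersivePresentation.naive (R := P) (v := v) S.map S.map_inj
  let Q₀ := MvPolynomial ι P ⧸ Ideal.span (Set.range v)
  let π₀ : Q₀ →ₐ[P] C := Ideal.Quotient.liftₐ _ (MvPolynomial.aeval S.val) (by
    intro a ha
    refine Submodule.span_induction (p := fun x _ ↦ MvPolynomial.aeval S.val x = (0 : C))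
      (fun x hx ↦ ?_) (map_zero _) (fun _ _ _ _ hx hy ↦ by simp [hx, hy])
      (fun _ _ _ hx ↦ by simp [hx]) ha
    obtain ⟨j, rfl⟩ := hx
    rw [← MvPolynomial.aeval_map_algebraMap B, hv]
    exact S.toPresentation.aeval_val_relation j)
  let d : Q₀ := pre.jacobian
  have hd : π₀ d = S.jacobian := by
    rw [show d = pre.jacobian from rfl, pre.jacobian_eq_jacobiMatrix_det,
      S.jacobian_eq_jacobiMatrix_det]
    have e : pre.jacobiMatrix.map (MvPolynomial.map (algebraMap P B)) = S.jacobiMatrix := by
      ext i j : 1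
      rw [Matrix.map_apply, Algebra.PreSubmersivePresentation.jacobiMatrix_apply,
        Algebra.PreSubmersivePresentation.jacobiMatrix_apply, ← hv, MvPolynomial.pderiv_map]
      rfl
    rw [← e, ← RingHom.mapMatrix_apply, ← RingHom.map_det]
    rw [S.toGenerators.algebraMap_apply, MvPolynomial.aeval_map_algebraMap,
      show algebraMap pre.Ring Q₀ = Ideal.Quotient.mk _ from ?_]
    · rfl
    · refine MvPolynomial.ringHom_ext (fun r ↦ ?_) (fun i ↦ ?_)
      · rw [pre.toGenerators.algebraMap_apply, MvPolynomial.aeval_C]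
        rfl
      · rw [pre.toGenerators.algebraMap_apply, MvPolynomial.aeval_X]
        rfl
  let Q := Localization.Away d
  have hdu : ∀ y : Submonoid.powers d, IsUnit (π₀ y) := by
    rintro ⟨_, n, rfl⟩
    simp only [map_pow, hd]
    exact S.jacobian_isUnit.pow n
  let π : Q →ₐ[P] C := IsLocalization.liftAlgHom (M := Submonoid.powers d) (f := π₀) hdu
  let sub : Algebra.SubmersivePresentation P Q (Unit ⊕ ι) (Unit ⊕ σ) :=
    { toPreSubmersivePresentation :=
        (Algebra.PreSubmersivePresentation.localizationAway Q d).comp pre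
      jacobian_isUnit := by
        have hu : IsUnit (algebraMap Q₀ Q d) := IsLocalization.Away.algebraMap_isUnit d
        rw [Algebra.PreSubmersivePresentation.comp_jacobian_eq_jacobian_smul_jacobian,
          Algebra.smul_def, Algebra.PreSubmersivePresentation.localizationAway_jacobian,
          IsUnit.mul_iff]
        exact ⟨hu, hu⟩ }
  have : Algebra.IsStandardSmoothOfRelativeDimension 0 P Q :=
    sub.isStandardSmoothOfRelativeDimension (by
      have h := hdim
      simp only [Algebra.Presentation.dimension, Nat.card_sum] at h ⊢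
      omega)
  have hπsurj : Function.Surjective π := by
    intro c
    obtain ⟨x, rfl⟩ := S.algebraMap_surjective c
    obtain ⟨p, rfl⟩ := hmap x
    refine ⟨algebraMap Q₀ Q (Ideal.Quotient.mk _ p), ?_⟩
    change IsLocalization.lift _ _ = _
    rw [IsLocalization.lift_eq]
    rw [S.toGenerators.algebraMap_apply, MvPolynomial.aeval_map_algebraMap]
    rfl
  refine ⟨Q, inferInstance, inferInstance, π, inferInstance, hπsurj, le_antisymm ?_ ?_⟩
  · intro x hx
    obtain ⟨a, ⟨s, hs⟩, rfl⟩ := IsLocalization.exists_mk'_eq (Submonoid.powers d) x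
    obtain ⟨p, rfl⟩ := Ideal.Quotient.mk_surjective a
    change IsLocalization.lift _ _ = 0 at hx
    rw [IsLocalization.lift_mk'_spec, mul_zero] at hx
    have hp : MvPolynomial.map (algebraMap P B) p ∈
        (Ideal.span (Set.range v)).map (MvPolynomial.map (algebraMap P B)) := by
      rw [Ideal.map_span, ← Set.range_comp,
        show MvPolynomial.map (algebraMap P B) ∘ v = S.relation from funext hv,
        S.toPresentation.span_range_relation_eq_ker, Algebra.Generators.ker_eq_ker_aeval_val]
      exact (MvPolynomial.aeval_map_algebraMap B S.val p).trans hx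
    rw [← Ideal.mem_comap, Ideal.comap_map_of_surjective _ hmap, ← RingHom.ker_eq_comap_bot,
      MvPolynomial.ker_map, Submodule.mem_sup] at hp
    obtain ⟨y, hy, z, hz, rfl⟩ := hp
    rw [IsLocalization.mk'_eq_mul_mk'_one]
    refine Ideal.mul_mem_right _ _ ?_
    rw [map_add (Ideal.Quotient.mk _), Ideal.Quotient.eq_zero_iff_mem.mpr hy, zero_add]
    have := Ideal.mem_map_of_mem ((algebraMap Q₀ Q).comp (Ideal.Quotient.mk _)) hz
    rw [Ideal.map_map] at this
    exact this
  · rw [Ideal.map_le_iff_le_comap]
    intro x hx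
    rw [RingHom.mem_ker] at hx
    rw [Ideal.mem_comap, RingHom.mem_ker, AlgHom.commutes, IsScalarTower.algebraMap_apply P B C, hx,
      map_zero]

/-- The kernel comparison needed for cotangent computations. -/
theorem mapKer_liftBaseChange_bijective {P Q : Type u} [CommRing P] [CommRing Q] [Algebra P Q]
    [Module.Flat P Q] (I : Ideal P) (J : Ideal Q) (hJ : J = I.map (algebraMap P Q))
    (φ : I →ₗ[P] J) (hφ : ∀ x, (φ x : Q) = algebraMap P Q x) :
    Function.Bijective (φ.liftBaseChange Q) := by
  have key : ∀ z : Q ⊗[P] I, ((φ.liftBaseChange Q z : J) : Q) =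
      AlgebraTensorModule.rid P Q Q (AlgebraTensorModule.lTensor Q Q I.subtype z) := by
    intro z
    induction z with
    | zero => simp
    | add x y hx hy => simp [hx, hy]
    | tmul q x => simp [hφ, Algebra.smul_def, mul_comm]
  constructor
  · intro x y h
    have h' := congr_arg (Subtype.val (p := fun q ↦ q ∈ J)) h
    rw [key, key] at h'
    exact Module.Flat.lTensor_preserves_injective_linearMap (M := Q) I.subtype Subtype.val_injective
      ((AlgebraTensorModule.rid P Q Q).injective h')
  · rintro ⟨j, hj⟩
    suffices ∃ z, ((φ.liftBaseChange Q z : J) : Q) = j from this.imp fun z hz ↦ Subtype.ext hz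
    rw [hJ] at hj
    refine Submodule.span_induction (fun x hx ↦ ?_) ⟨0, by simp⟩ ?_ ?_ hj
    · obtain ⟨p, hp, rfl⟩ := hx
      exact ⟨1 ⊗ₜ ⟨p, hp⟩, by simp [hφ]⟩
    · rintro x y - - ⟨zx, hx⟩ ⟨zy, hy⟩
      exact ⟨zx + zy, by simp [hx, hy]⟩
    · rintro q x - ⟨zx, hx⟩
      exact ⟨q • zx, by simp [hx]⟩

theorem finitePresentation_of_comp_of_finiteType [Module.FaithfullyFlat B C] [Algebra.Etale B C]
    [Algebra.FiniteType A B] [Algebra.FinitePresentation A C] :
    Algebra.FinitePresentation A B := by
  classical
  obtain ⟨n, f, hf⟩ := Algebra.FiniteType.iff_quotient_mvPolynomial''.mp ‹Algebra.FiniteType A B›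
  let P := MvPolynomial (Fin n) A
  algebraize [f.toRingHom, (algebraMap B C).comp f.toRingHom]
  have : IsScalarTower P B C := .of_algebraMap_eq' rfl
  obtain ⟨Q, _, _, π, _, hπ, hker⟩ := exists_etale_lift (B := B) (C := C) (P := P) hf
  refine .of_surjective hf ?_
  set I := RingHom.ker f.toRingHom
  have hker' : RingHom.ker π = I.map (algebraMap P Q) := hker
  algebraize [(algebraMap P Q).comp (algebraMap A P)]
  have : Algebra.FinitePresentation A Q := Algebra.FinitePresentation.trans A P Q
  let π' : Q →ₐ[A] C :=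
    { π.toRingHom with
      commutes' := fun r ↦ by
        simp [IsScalarTower.algebraMap_apply A B C,
          RingHom.algebraMap_toAlgebra] }
  have hfg : (I.map (algebraMap P Q)).FG := by
    rw [← hker']
    exact Algebra.FinitePresentation.ker_fG_of_surjective π' hπ
  -- the open image of `Spec Q` contains `V(I)`
  have : Algebra.HasGoingDown P Q := inferInstance
  have hopen : IsOpen (Set.range (PrimeSpectrum.comap (algebraMap P Q))) :=
    (PrimeSpectrum.isOpenMap_comap_of_hasGoingDown_of_finitePresentation (R := P) (S := Q)).isOpen_range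
  obtain ⟨K, hK⟩ := (PrimeSpectrum.isClosed_iff_zeroLocus_ideal _).mp hopen.isClosed_compl
  have hIU : PrimeSpectrum.zeroLocus (I : Set P) ⊆
      Set.range (PrimeSpectrum.comap (algebraMap P Q)) := by
    intro p hp
    obtain ⟨b, rfl⟩ : p ∈ Set.range (PrimeSpectrum.comap (algebraMap P B)) := by
      rwa [range_comap_of_surjective _ (algebraMap P B) hf]
    obtain ⟨c, rfl⟩ := PrimeSpectrum.comap_surjective_of_faithfullyFlat (A := B) (B := C) b
    refine ⟨PrimeSpectrum.comap π.toRingHom c, ?_⟩
    ext x
    simp [RingHom.algebraMap_toAlgebra]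
  have hIK : I ⊔ K = ⊤ := by
    rw [← PrimeSpectrum.zeroLocus_empty_iff_eq_top, PrimeSpectrum.zeroLocus_sup, ← hK]
    exact Set.eq_empty_of_forall_notMem fun p hp ↦ hp.2 (hIU hp.1)
  obtain ⟨i, hi, k, hk, hik⟩ := Submodule.mem_sup.mp ((Ideal.eq_top_iff_one _).mp hIK)
  obtain ⟨s, hsI, hs⟩ :=
    (Submodule.fg_span_iff_fg_span_finset_subset (R := Q) ((algebraMap P Q) '' I)).mp hfg
  obtain ⟨t, htI, rfl⟩ := Finset.subset_set_image_iff.mp hsI
  let J : Ideal P := Ideal.span (insert i (t : Set P))
  have hJI : J ≤ I := Ideal.span_le.mpr (Set.insert_subset hi htI)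
  suffices I ≤ J by
    rw [le_antisymm this hJI]
    exact Submodule.fg_span ((Finset.finite_toSet t).insert i)
  have hJQ : J.map (algebraMap P Q) = I.map (algebraMap P Q) := by
    refine le_antisymm (Ideal.map_mono hJI) ?_
    calc I.map (algebraMap P Q) = Ideal.span ((algebraMap P Q) '' I) := rfl
      _ = Ideal.span ((t.image (algebraMap P Q) : Finset Q) : Set Q) := hs
      _ ≤ _ := by
        rw [Finset.coe_image, Ideal.span_le]
        rintro _ ⟨x, hx, rfl⟩
        exact Ideal.mem_map_of_mem _ (Ideal.subset_span (Set.mem_insert_of_mem _ hx))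
  let L := Localization.Away i
  have : Module.Flat P (Q × L) := by
    refine Module.Flat.iff_lTensor_preserves_injective_linearMap.mpr fun N N' _ _ _ _ g hg ↦ ?_
    have h1 : Function.Injective (g.lTensor Q) := Module.Flat.lTensor_preserves_injective_linearMap g hg
    have h2 : Function.Injective (g.lTensor L) := Module.Flat.lTensor_preserves_injective_linearMap g hg
    have key : ∀ x, TensorProduct.prodLeft P P Q L N' (g.lTensor (Q × L) x) =
        Prod.map (g.lTensor Q) (g.lTensor L) (TensorProduct.prodLeft P P Q L N x) := by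
      intro x
      induction x with
      | zero => simp [Prod.map, Prod.mk_zero_zero]
      | add x y hx hy => simp [map_add, hx, hy, Prod.map]
      | tmul a m =>
        obtain ⟨a₁, a₂⟩ := a
        simp [Prod.map]
    exact fun x y h ↦ (TensorProduct.prodLeft P P Q L N).injective
      ((h1.prodMap h2) (by rw [← key, ← key, h]))
  have : Module.FaithfullyFlat P (Q × L) := by
    refine .of_comap_surjective fun p ↦ ?_
    by_cases hp : p ∈ Set.range (PrimeSpectrum.comap (algebraMap P Q))
    · obtain ⟨q, rfl⟩ := hp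
      exact ⟨PrimeSpectrum.comap (RingHom.fst Q L) q, by ext x; simp⟩
    · have hip : i ∉ p.asIdeal := by
        intro hip
        have hkp : k ∈ p.asIdeal :=
          (show p ∈ PrimeSpectrum.zeroLocus (K : Set P) by rw [← hK]; exact hp) hk
        exact p.2.ne_top ((Ideal.eq_top_iff_one _).mpr (hik ▸ add_mem hip hkp))
      obtain ⟨q, rfl⟩ : p ∈ Set.range (PrimeSpectrum.comap (algebraMap P L)) := by
        rw [PrimeSpectrum.localization_away_comap_range L i]
        exact hip
      exact ⟨PrimeSpectrum.comap (RingHom.snd Q L) q, by ext x; simp⟩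
  intro x hx
  rw [← Ideal.comap_map_eq_self_of_faithfullyFlat (B := Q × L) J, Ideal.mem_comap]
  set J' := J.map (algebraMap P (Q × L))
  have h2 : ∀ y : L, ((0 : Q), y) ∈ J' := by
    intro y
    have := J'.mul_mem_left ((0 : Q), y * IsLocalization.Away.invSelf i)
      (Ideal.mem_map_of_mem (algebraMap P (Q × L))
        (Ideal.subset_span (Set.mem_insert i _) : i ∈ J))
    convert! this using 1
    ext
    · simp
    · simp only [Prod.algebraMap_apply, Prod.snd_mul]
      rw [mul_assoc, mul_comm (IsLocalization.Away.invSelf i), IsLocalization.Away.mul_invSelf,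
        mul_one]
  have h1 : ∀ a ∈ J.map (algebraMap P Q), (a, (0 : L)) ∈ J' := by
    intro a ha
    refine Submodule.span_induction (fun y hy ↦ ?_) (zero_mem J') ?_ ?_ ha
    · obtain ⟨p, hp, rfl⟩ := hy
      have := J'.mul_mem_left ((1 : Q), (0 : L)) (Ideal.mem_map_of_mem _ hp)
      convert! this using 1
      simp
    · intro y z _ _ hy hz
      convert! add_mem hy hz using 1
      simp
    · intro q y _ hy
      convert! J'.mul_mem_left (q, (0 : L)) hy using 1
      simp
  convert! add_mem (h1 (algebraMap P Q x) (hJQ ▸ Ideal.mem_map_of_mem _ hx))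
    (h2 (algebraMap P L x)) using 1
  simp
  rfl

theorem surjective_of_tensor_map_surjective (R A₁ B₁ B₀ : Type u) [CommRing R] [CommRing A₁]
    [CommRing B₁] [CommRing B₀] [Algebra R A₁] [Algebra R B₁] [Algebra R B₀] [Algebra A₁ B₁]
    [IsScalarTower R A₁ B₁] [Module.FaithfullyFlat A₁ (A₁ ⊗[R] B₀)]
    (h : Function.Surjective
      (Algebra.TensorProduct.map (IsScalarTower.toAlgHom R A₁ B₁) (AlgHom.id R B₀))) :
    Function.Surjective (algebraMap A₁ B₁) := by
  let lin : A₁ →ₗ[A₁] B₁ := Algebra.linearMap A₁ B₁
  suffices Function.Surjective lin from this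
  have : Function.Surjective (lin.rTensor (A₁ ⊗[R] B₀)) := by
    intro y
    obtain ⟨x, hx⟩ := h (AlgebraTensorModule.cancelBaseChange R A₁ A₁ B₁ B₀ y)
    refine ⟨(TensorProduct.lid A₁ _).symm x, ?_⟩
    apply (AlgebraTensorModule.cancelBaseChange R A₁ A₁ B₁ B₀).injective
    rw [← hx]
    clear hx
    induction x with
    | zero => simp only [map_zero]
    | add a b ha hb => simp only [map_add, ha, hb]
    | tmul a b => simp [lin, Algebra.algebraMap_eq_smul_one]
  rw [← Module.FaithfullyFlat.lTensor_surjective_iff_surjective A₁ (A₁ ⊗[R] B₀)]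
  rw [← LinearMap.comm_comp_rTensor_comp_comm_eq]
  simp only [LinearMap.coe_comp, LinearEquiv.coe_coe]
  exact (LinearEquiv.surjective _).comp (this.comp (LinearEquiv.surjective _))

theorem finiteType_of_comp [Module.FaithfullyFlat B C] [Algebra.Etale B C]
    [Algebra.FiniteType A C] : Algebra.FiniteType A B := by
  classical
  obtain ⟨A₀, B₀, _, _, hA₀, _, ⟨e⟩⟩ := Algebra.Etale.exists_subalgebra_fg A B C
  obtain ⟨s, hs⟩ := Algebra.FiniteType.out (R := A) (A := C)
  choose k t m h using fun x : s ↦ TensorProduct.exists_sum_tmul_eq (e x.1)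
  have hopen : IsOpen (Set.range (PrimeSpectrum.comap (algebraMap A₀ B₀))) :=
    (PrimeSpectrum.isOpenMap_comap_of_hasGoingDown_of_finitePresentation (R := A₀) (S := B₀)).isOpen_range
  obtain ⟨K, hK⟩ := (PrimeSpectrum.isClosed_iff_zeroLocus_ideal _).mp hopen.isClosed_compl
  have hKtop : K.map (algebraMap A₀ B) = ⊤ := by
    rw [← PrimeSpectrum.zeroLocus_empty_iff_eq_top]
    refine Set.eq_empty_of_forall_notMem fun b hb ↦ ?_
    obtain ⟨c, rfl⟩ := PrimeSpectrum.comap_surjective_of_faithfullyFlat (A := B) (B := C) b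
    have hb' : PrimeSpectrum.comap (algebraMap A₀ B) (PrimeSpectrum.comap (algebraMap B C) c) ∈
        PrimeSpectrum.zeroLocus (K : Set A₀) :=
      fun x hx ↦ hb (Ideal.mem_map_of_mem _ hx)
    rw [← hK] at hb'
    refine hb' ⟨PrimeSpectrum.comap ((e.symm : B ⊗[A₀] B₀ →+* C).comp
      Algebra.TensorProduct.includeRight.toRingHom) c, ?_⟩
    rw [← PrimeSpectrum.comap_comp_apply, ← PrimeSpectrum.comap_comp_apply]
    congr 1
    ext x
    simp only [RingHom.coe_comp, Function.comp_apply, AlgHom.toRingHom_eq_coe, RingHom.coe_coe,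
      Algebra.TensorProduct.includeRight_apply]
    rw [Algebra.algebraMap_eq_smul_one (R := A₀) (A := B₀), ← TensorProduct.smul_tmul,
      ← Algebra.algebraMap_eq_smul_one, ← e.symm.commutes]
    rfl
  obtain ⟨N, cf, g, hcf⟩ := Submodule.mem_span_set'.mp
    ((Ideal.eq_top_iff_one _).mp hKtop :
      (1 : B) ∈ Submodule.span B ((algebraMap A₀ B) '' (K : Set A₀)))
  let W : Finset B := (Finset.univ.biUnion fun x : s ↦ Finset.univ.image (t x)) ∪
    Finset.univ.image cf
  let A₁ : Subalgebra A B := A₀ ⊔ Algebra.adjoin A (W : Set B)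
  suffices hA₁ : (A₁ : Set B) = Set.univ by
    constructor
    have : A₁ = ⊤ := SetLike.coe_injective (by simpa using hA₁)
    rw [← this]
    exact Subalgebra.FG.sup hA₀ ⟨W, rfl⟩
  have hW : ∀ w ∈ W, w ∈ A₁ := fun w hw ↦
    (le_sup_right : _ ≤ A₁) (Algebra.subset_adjoin hw)
  algebraize [(Subalgebra.inclusion (le_sup_left : A₀ ≤ A₁)).toRingHom]
  have : IsScalarTower A₀ A₁ B := .of_algebraMap_eq fun _ ↦ rfl
  let ι : A₁ →ₐ[A₀] B := IsScalarTower.toAlgHom A₀ A₁ B
  -- `A₁ ⊗ B₀` is faithfully flat over `A₁`
  have : Module.FaithfullyFlat A₁ (A₁ ⊗[A₀] B₀) := by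
    refine .of_comap_surjective fun p ↦ ?_
    let p₀ := PrimeSpectrum.comap (algebraMap A₀ A₁) p
    have hp₀ : p₀ ∈ Set.range (PrimeSpectrum.comap (algebraMap A₀ B₀)) := by
      by_contra hcon
      have hp' : p₀ ∈ PrimeSpectrum.zeroLocus (K : Set A₀) := by rw [← hK]; exact hcon
      refine p.2.ne_top ((Ideal.eq_top_iff_one _).mpr ?_)
      have hg : ∀ l : Fin N, ∃ x ∈ K, algebraMap A₀ B x = g l := fun l ↦ (g l).2
      choose x hx hgx using hg
      have : (1 : A₁) = ∑ l, (⟨cf l, hW _ (by simp [W])⟩ : A₁) * algebraMap A₀ A₁ (x l) := by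
        apply Subtype.ext
        refine Eq.trans hcf.symm ?_
        rw [AddSubmonoidClass.coe_finsetSum]
        refine Finset.sum_congr rfl fun l _ ↦ ?_
        rw [smul_eq_mul, ← hgx]
        rfl
      rw [this]
      exact Submodule.sum_mem _ fun l _ ↦ Ideal.mul_mem_left _ _ (hp' (hx l))
    rw [← Set.mem_range, ← PrimeSpectrum.nontrivial_iff_mem_rangeComap]
    rw [← PrimeSpectrum.nontrivial_iff_mem_rangeComap] at hp₀
    have e1 := AlgebraTensorModule.cancelBaseChange A₀ A₁ A₁ p.asIdeal.ResidueField B₀
    suffices Nontrivial (p.asIdeal.ResidueField ⊗[A₀] B₀) from e1.toEquiv.nontrivial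
    let φ : p₀.asIdeal.ResidueField →ₐ[A₀] p.asIdeal.ResidueField :=
      Ideal.ResidueField.mapₐ p₀.asIdeal p.asIdeal (Algebra.ofId A₀ A₁) rfl
    algebraize [φ.toRingHom]
    have : IsScalarTower A₀ p₀.asIdeal.ResidueField p.asIdeal.ResidueField :=
      .of_algebraMap_eq fun x ↦ (φ.commutes x).symm
    exact (AlgebraTensorModule.cancelBaseChange A₀ p₀.asIdeal.ResidueField
      p₀.asIdeal.ResidueField p.asIdeal.ResidueField B₀).symm.toEquiv.nontrivial
  -- `A₁ ⊗ B₀ → B ⊗ B₀` is surjective
  let F : A₁ ⊗[A₀] B₀ →ₐ[A₀] B ⊗[A₀] B₀ := Algebra.TensorProduct.map ι (AlgHom.id _ _)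
  have hF : Function.Surjective F := by
    suffices H : ∀ c : C, e c ∈ F.range by
      intro y
      obtain ⟨c, rfl⟩ := e.surjective y
      exact H c
    intro c
    have hc : c ∈ Algebra.adjoin A (s : Set C) := by rw [hs]; trivial
    induction hc using Algebra.adjoin_induction with
    | mem x hx =>
      rw [h ⟨x, hx⟩]
      refine Subalgebra.sum_mem _ fun j _ ↦ ?_
      exact ⟨(⟨t ⟨x, hx⟩ j, hW _ (Finset.mem_union_left _ (Finset.mem_biUnion.mpr
        ⟨⟨x, hx⟩, Finset.mem_univ _, Finset.mem_image_of_mem _ (Finset.mem_univ j)⟩))⟩ : A₁) ⊗ₜ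
        m ⟨x, hx⟩ j, rfl⟩
    | algebraMap r =>
      rw [IsScalarTower.algebraMap_apply A B C, e.commutes]
      exact ⟨(algebraMap A A₁ r) ⊗ₜ 1, rfl⟩
    | add x y _ _ hx hy => rw [map_add]; exact add_mem hx hy
    | mul x y _ _ hx hy => rw [map_mul]; exact mul_mem hx hy
  have hsurj := surjective_of_tensor_map_surjective A₀ A₁ B B₀ hF
  exact Set.eq_univ_of_forall fun b ↦ by obtain ⟨⟨a, ha⟩, rfl⟩ := hsurj b; exact ha

theorem finitePresentation_of_comp [Module.FaithfullyFlat B C] [Algebra.Etale B C]
    [Algebra.FinitePresentation A C] : Algebra.FinitePresentation A B :=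
  have : Algebra.FiniteType A B := finiteType_of_comp A B C
  finitePresentation_of_comp_of_finiteType A B C

theorem smooth_of_comp [Module.FaithfullyFlat B C] [Algebra.Etale B C] [Algebra.Smooth A C] :
    Algebra.Smooth A B := by
  classical
  have : Algebra.FinitePresentation A B := finitePresentation_of_comp A B C
  refine ⟨?_, ‹_›⟩
  obtain ⟨n, f, hf⟩ := Algebra.FiniteType.iff_quotient_mvPolynomial''.mp
    (inferInstance : Algebra.FiniteType A B)
  let P := MvPolynomial (Fin n) A
  algebraize [f.toRingHom, (algebraMap B C).comp f.toRingHom]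
  have : IsScalarTower A P B := .of_algebraMap_eq fun r ↦ (f.commutes r).symm
  have : IsScalarTower P B C := .of_algebraMap_eq' rfl
  obtain ⟨Q, _, _, π, _, hπ, hker⟩ := exists_etale_lift (B := B) (C := C) (P := P) hf
  algebraize [(algebraMap P Q).comp (algebraMap A P)]
  let π' : Q →ₐ[A] C :=
    { π.toRingHom with
      commutes' := fun r ↦ by
        simp [IsScalarTower.algebraMap_apply A B C,
          RingHom.algebraMap_toAlgebra] }
  let E : Algebra.Extension A B := .ofSurjective f hf
  let EQ : Algebra.Extension A C := .ofSurjective π' hπ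
  let hom : E.Hom EQ :=
    { toRingHom := algebraMap P Q
      toRingHom_algebraMap := fun _ ↦ rfl
      algebraMap_toRingHom := fun x ↦ π.commutes x }
  let : Algebra E.Ring EQ.Ring := (inferInstance : Algebra P Q)
  have : Algebra.FormallySmooth A E.Ring := inferInstanceAs (Algebra.FormallySmooth A P)
  have : Algebra.FormallySmooth P Q := inferInstance
  have : Algebra.FormallySmooth A EQ.Ring := Algebra.FormallySmooth.comp A P Q
  rw [Algebra.formallySmooth_iff]
  constructor
  · have eΩ := KaehlerDifferential.tensorKaehlerEquivOfFormallyEtale A B C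
    have : Module.Flat C (C ⊗[B] Ω[B⁄A]) := .of_linearEquiv eΩ
    have : Module.Flat B Ω[B⁄A] := Module.Flat.of_flat_tensorProduct _ _ C
    exact Module.Flat.projective_of_finitePresentation
  · have hbij : Function.Bijective ((hom.mapKer rfl).liftBaseChange EQ.Ring) :=
      @mapKer_liftBaseChange_bijective E.Ring EQ.Ring _ _ _ (inferInstanceAs (Module.Flat P Q))
        E.ker EQ.ker hker _ fun _ ↦ rfl
    have e1 := Algebra.Extension.tensorH1CotangentOfFormallyEtale hom rfl
      (RingHom.formallyEtale_algebraMap.mpr (inferInstance : Algebra.FormallyEtale P Q)) hbij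
    have : Subsingleton EQ.H1Cotangent :=
      EQ.equivH1CotangentOfFormallySmooth.subsingleton_congr.mpr inferInstance
    have : Subsingleton (C ⊗[B] E.H1Cotangent) := e1.subsingleton
    have : Subsingleton E.H1Cotangent := Module.FaithfullyFlat.lTensor_reflects_triviality B C _
    exact E.equivH1CotangentOfFormallySmooth.symm.subsingleton

theorem etale_of_comp [Module.FaithfullyFlat B C] [Algebra.Etale B C] [Algebra.Etale A C] :
    Algebra.Etale A B := by
  rw [Algebra.Etale.iff_formallyUnramified_and_smooth]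
  exact ⟨formallyUnramified_of_comp A B C, smooth_of_comp A B C⟩

end Groth.Agent.Lib.SourceDescent.Ring

namespace Groth.Agent.Lib.SourceDescent.Ring

/-! RingHom forms. -/

/-- `Q` can be checked after composing with a faithfully flat etale ring map. -/
def EtaleSourceDescent (Q : ∀ {R S : Type u} [CommRing R] [CommRing S], (R →+* S) → Prop) : Prop :=
  ∀ ⦃R S T : Type u⦄ [CommRing R] [CommRing S] [CommRing T] (f : R →+* S) (g : S →+* T),
    g.FaithfullyFlat → g.Etale → Q (g.comp f) → Q f

theorem flat_esd : EtaleSourceDescent.{u} (fun f ↦ f.Flat) := by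
  intro R S T _ _ _ f g hg _ h
  algebraize [f, g, g.comp f]
  exact flat_of_comp R S T

theorem formallyUnramified_esd : EtaleSourceDescent.{u} (fun f ↦ f.FormallyUnramified) := by
  intro R S T _ _ _ f g hg hg' h
  algebraize [f, g, g.comp f]
  exact formallyUnramified_of_comp R S T

theorem quasiFinite_esd : EtaleSourceDescent.{u} (fun f ↦ f.QuasiFinite) := by
  intro R S T _ _ _ f g hg hg' h
  algebraize [f, g, g.comp f]
  exact quasiFinite_of_comp R S T

theorem finiteType_esd : EtaleSourceDescent.{u} (fun f ↦ f.FiniteType) := by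
  intro R S T _ _ _ f g hg hg' h
  algebraize [f, g, g.comp f]
  exact finiteType_of_comp R S T

theorem finitePresentation_esd : EtaleSourceDescent.{u} (fun f ↦ f.FinitePresentation) := by
  intro R S T _ _ _ f g hg hg' h
  algebraize [f, g, g.comp f]
  exact finitePresentation_of_comp R S T

theorem smooth_esd : EtaleSourceDescent.{u} (fun f ↦ f.Smooth) := by
  intro R S T _ _ _ f g hg hg' h
  algebraize [f, g, g.comp f]
  exact smooth_of_comp R S T

theorem etale_esd : EtaleSourceDescent.{u} (fun f ↦ f.Etale) := by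
  intro R S T _ _ _ f g hg hg' h
  algebraize [f, g, g.comp f]
  exact etale_of_comp R S T

end Groth.Agent.Lib.SourceDescent.Ring
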